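import Mathlib
import Cfsg.Agent.Lib.LyDC.Bridge
import Cfsg.Agent.Lib.LyG2_97.Model
import Cfsg.Agent.Lib.Chev.Perfect
import Cfsg.Agent.S1059

/-!
`Hbar` is isomorphic to the group of type G₂ over the field with five elements, so it is simple.
-/

set_option autoImplicit false

namespace Cfsg.Agent.Lib.LyMain

open Cfsg.Agent.Lib.LyG2_97 (ga gb gc gd lyRel_model gens_eq)

theorem card_model : Nat.card (Cfsg.Lie.chevG2.group (ZMod 5)) = 5859000000 := by
  have : Fact (Nat.Prime 5) := ⟨by norm_num⟩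
  rw [Cfsg.Agent.S1059.result (ZMod.card 5)]
  norm_num

theorem hbar_equiv : Nonempty (LyDC.Hbar ≃* Cfsg.Lie.chevG2.group (ZMod 5)) := by
  obtain ⟨φ, -, -, -, -, hr⟩ := LyDC.exists_hom lyRel_model
  have hr' : φ.range = Cfsg.Lie.chevG2.group (ZMod 5) := hr.trans gens_eq
  have hb : Function.Bijective φ.rangeRestrict :=
    Function.Surjective.bijective_of_nat_card_le φ.rangeRestrict_surjective
      (by rw [LyDC.card_Hbar, hr', card_model])
  exact ⟨(MulEquiv.ofBijective _ hb).trans (MulEquiv.subgroupCongr hr')⟩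

theorem hbar_simple : IsSimpleGroup LyDC.Hbar := by
  obtain ⟨e⟩ := hbar_equiv
  have h2 : (2 : ZMod 5) ≠ 0 ∧ (2 : ZMod 5) ≠ 1 := by decide
  have : Fact (Nat.Prime 5) := ⟨by norm_num⟩
  have := (Cfsg.Agent.Lib.Chev.simple_G2 (F := ZMod 5) ⟨2, h2⟩).1
  exact e.isSimpleGroup

end Cfsg.Agent.Lib.LyMain
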