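import Mathlib

/-!
Order and simplicity of a group with a simple subgroup H of order 5859000000 (the order of G2(5)),
five double cosets with the stabiliser bounds of the Lyons group, and elements of orders 11, 37, 67.
-/

set_option autoImplicit false

namespace Cfsg.Agent.Lib.LyMain

open MulAction

/-- lower bounds of the five intersections -/
def lyK : Fin 5 → ℕ := ![5859000000, 300000, 6048, 2880, 1008]

/-- the five suborbit lengths -/
def lyM : Fin 5 → ℕ := ![1, 19530, 968750, 2034375, 5812500]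

theorem lyK_mul_lyM : ∀ j, lyK j * lyM j = 5859000000 := by decide +kernel

theorem lyK_pos : ∀ j, 0 < lyK j := by decide +kernel

theorem lyM_pos : ∀ j, 0 < lyM j := by decide +kernel

/-- five primes dividing the index -/
def indexPrime : Fin 5 → ℕ := ![2, 3, 11, 37, 67]

theorem indexPrime_inj : ∀ i j, indexPrime i = indexPrime j → i = j := by decide +kernel

/-- divisors of a product of prime powers -/
def divList : List (ℕ × ℕ) → List ℕ
  | [] => [1]
  | (p, a) :: l => (List.range (a + 1)).flatMap fun i => (divList l).map (p ^ i * ·)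

theorem mem_divList : ∀ l : List (ℕ × ℕ), (∀ x ∈ l, x.1.Prime) →
    ∀ d, d ∣ (l.map fun x => x.1 ^ x.2).prod → d ∈ divList l
  | [], _, d, h => by simpa [divList] using h
  | (p, a) :: l, hl, d, h => by
    simp only [List.map_cons, List.prod_cons] at h
    obtain ⟨d1, d2, h1, h2, rfl⟩ := Nat.dvd_mul.1 h
    obtain ⟨i, hi, rfl⟩ := (Nat.dvd_prime_pow (hl (p, a) (List.mem_cons_self ..))).1 h1
    simp only [divList, List.mem_flatMap, List.mem_range, List.mem_map]
    exact ⟨i, by omega, d2, mem_divList l (fun x hx => hl x (List.mem_cons_of_mem _ hx)) d2 h2, rfl⟩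

/-- admissible suborbit lengths -/
def lenList (l : List (ℕ × ℕ)) : List ℕ :=
  0 :: (divList l).filter fun d => d == 1 || Nat.ble 31 d

theorem mem_lenList {l : List (ℕ × ℕ)} (hl : ∀ x ∈ l, x.1.Prime) {n d : ℕ}
    (hn : (l.map fun x => x.1 ^ x.2).prod = n) (h : d = 0 ∨ (d ∣ n ∧ (d = 1 ∨ 31 ≤ d))) :
    d ∈ lenList l := by
  rcases h with rfl | ⟨h1, h2⟩
  · exact List.mem_cons_self ..
  · refine List.mem_cons_of_mem _ (List.mem_filter.2 ⟨mem_divList l hl d (hn ▸ h1), ?_⟩)
    rcases h2 with rfl | h2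
    · rfl
    · simp [Nat.ble_eq, h2]

theorem len_check :
    ((lenList [(2, 1), (5, 6), (31, 1)]).all fun a =>
      (lenList [(3, 1), (5, 5), (7, 1), (31, 1)]).all fun b =>
        (lenList [(2, 2), (3, 1), (5, 6), (31, 1)]).all fun c =>
          !(Nat.beq ((19531 + a + b + c) % 27269) 0) ||
            (Nat.beq a 968750 && Nat.beq b 2034375 && Nat.beq c 5812500)) = true := by
  decide +kernel

theorem len_solution {a b c : ℕ} (ha : a = 0 ∨ (a ∣ 968750 ∧ (a = 1 ∨ 31 ≤ a)))
    (hb : b = 0 ∨ (b ∣ 2034375 ∧ (b = 1 ∨ 31 ≤ b)))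
    (hc : c = 0 ∨ (c ∣ 5812500 ∧ (c = 1 ∨ 31 ≤ c))) (h : 27269 ∣ 19531 + a + b + c) :
    a = 968750 ∧ b = 2034375 ∧ c = 5812500 := by
  have h1 := List.all_eq_true.1 len_check a (mem_lenList (by simp; norm_num) (by norm_num) ha)
  have h2 := List.all_eq_true.1 h1 b (mem_lenList (by simp; norm_num) (by norm_num) hb)
  have h3 := List.all_eq_true.1 h2 c (mem_lenList (by simp; norm_num) (by norm_num) hc)
  have h0 : Nat.beq ((19531 + a + b + c) % 27269) 0 = true := by
    rw [Nat.mod_eq_zero_of_dvd h]; rfl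
  simp only [h0, Bool.not_true, Bool.false_or, Bool.and_eq_true] at h3
  exact ⟨Nat.eq_of_beq_eq_true h3.1.1, Nat.eq_of_beq_eq_true h3.1.2, Nat.eq_of_beq_eq_true h3.2⟩

theorem dvd_index_of_orderOf {G : Type*} [Group G] (H : Subgroup G)
    (hH : Nat.card H = 5859000000) {p : ℕ} (hp : p.Prime) (hnd : ¬ p ∣ 5859000000) {g : G}
    (hg : orderOf g = p) : p ∣ H.index := by
  have h : p ∣ H.index * Nat.card H := by
    rw [H.index_mul_card, ← hg]
    exact orderOf_dvd_natCard g
  rw [hH] at h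
  exact (hp.dvd_mul.1 h).resolve_right hnd

/-- the hypotheses of the assembly -/
structure Setup {G : Type*} [Group G] (H : Subgroup G) (s : Fin 5 → G) : Prop where
  cardH : Nat.card H = 5859000000
  simpleH : IsSimpleGroup H
  s_zero : s 0 = 1
  cover : ∀ g : G, ∃ j, ∃ h ∈ H, ∃ k ∈ H, g = h * s j * k
  lower : ∀ j, lyK j ∣ Nat.card (H ⊓ H.map (MulAut.conj (s j)).toMonoidHom : Subgroup G)
  exact_one : Nat.card (H ⊓ H.map (MulAut.conj (s 1)).toMonoidHom : Subgroup G) ≤ 300000
  gen : Subgroup.closure ((H : Set G) ∪ {s 1}) = ⊤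
  sq_mem : s 1 ^ 2 ∈ H
  order11 : ∃ g : G, orderOf g = 11
  order37 : ∃ g : G, orderOf g = 37
  order67 : ∃ g : G, orderOf g = 67

namespace Setup

variable {G : Type*} [Group G] {H : Subgroup G} {s : Fin 5 → G}

theorem finite (S : Setup H s) : Finite G := by
  have hne : Nat.card H ≠ 0 := by rw [S.cardH]; norm_num
  have hfin : Finite H := Nat.finite_of_card_ne_zero hne
  refine Finite.of_surjective (fun x : Fin 5 × H × H => (x.2.1 : G) * s x.1 * x.2.2) fun g => ?_
  obtain ⟨j, h, hh, k, hk, rfl⟩ := S.cover g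
  exact ⟨⟨j, ⟨h, hh⟩, ⟨k, hk⟩⟩, rfl⟩

theorem mem_orbit_of_eq {g h k : G} (hh : h ∈ H) (hk : k ∈ H) {t : G} (e : g = h * t * k) :
    (g : G ⧸ H) ∈ orbit H (t : G ⧸ H) := by
  refine ⟨⟨h, hh⟩, ?_⟩
  show ((h * t : G) : G ⧸ H) = g
  rw [QuotientGroup.eq, e]
  simpa [mul_assoc] using hk

theorem exists_orbit (S : Setup H s) (x : G ⧸ H) : ∃ j, x ∈ orbit H ((s j : G) : G ⧸ H) := by
  induction x using QuotientGroup.induction_on with
  | _ g =>
    obtain ⟨j, h, hh, k, hk, e⟩ := S.cover g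
    exact ⟨j, mem_orbit_of_eq hh hk e⟩

theorem stabilizer_map (t : G) :
    (stabilizer H (t : G ⧸ H)).map H.subtype = H ⊓ H.map (MulAut.conj t).toMonoidHom := by
  ext g
  rw [Subgroup.mem_map, Subgroup.mem_inf, Subgroup.mem_map]
  constructor
  · rintro ⟨⟨h, hh⟩, hst, rfl⟩
    refine ⟨hh, t⁻¹ * h * t, ?_, by simp [mul_assoc]⟩
    have e : ((h * t : G) : G ⧸ H) = t := hst
    rw [QuotientGroup.eq] at e
    have := H.inv_mem e
    simpa [mul_assoc] using this
  · rintro ⟨hg, k, hk, rfl⟩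
    refine ⟨⟨_, hg⟩, ?_, rfl⟩
    show ((t * k * t⁻¹ * t : G) : G ⧸ H) = t
    rw [QuotientGroup.eq]
    simpa [mul_assoc] using hk

theorem card_orbit_mul (S : Setup H s) (j : Fin 5) :
    Nat.card (orbit H ((s j : G) : G ⧸ H)) *
      Nat.card (H ⊓ H.map (MulAut.conj (s j)).toMonoidHom : Subgroup G) = 5859000000 := by
  rw [← S.cardH, ← stabilizer_map, ← Nat.card_congr (Subgroup.equivMapOfInjective _ H.subtype
    H.subtype_injective).toEquiv, Nat.card_congr (orbitEquivQuotientStabilizer H _),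
    ← Subgroup.card_eq_card_quotient_mul_card_subgroup]

theorem card_orbit_dvd (S : Setup H s) (j : Fin 5) :
    Nat.card (orbit H ((s j : G) : G ⧸ H)) ∣ lyM j := by
  obtain ⟨e, he⟩ := S.lower j
  have h := S.card_orbit_mul j
  rw [he, ← lyK_mul_lyM j] at h
  have hK : 0 < lyK j := lyK_pos j
  exact ⟨e, (Nat.eq_of_mul_eq_mul_left hK (by rw [← h]; ring)).symm⟩

theorem card_orbit_one_or_big (S : Setup H s) (x : G ⧸ H) :
    Nat.card (orbit H x) = 1 ∨ 31 ≤ Nat.card (orbit H x) := by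
  have hfin := S.finite
  have := S.simpleH
  rcases (MonoidHom.normal_ker (MulAction.toPermHom H (orbit H x))).eq_bot_or_eq_top with h | h
  · right
    have hd := Subgroup.card_dvd_of_injective _ ((MonoidHom.ker_eq_bot_iff _).1 h)
    rw [S.cardH, Nat.card_perm] at hd
    exact (Nat.Prime.dvd_factorial (by norm_num)).1 (dvd_trans (by norm_num) hd)
  · left
    have key : ∀ y : orbit H x, y = ⟨x, mem_orbit_self x⟩ := by
      rintro ⟨y, k, rfl⟩
      have hk : k ∈ (MulAction.toPermHom H (orbit H x)).ker := h ▸ Subgroup.mem_top k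
      exact congrArg (fun p : Equiv.Perm (orbit H x) => p ⟨x, mem_orbit_self x⟩)
        (MonoidHom.mem_ker.1 hk)
    have hsub : Subsingleton (orbit H x) := ⟨fun a b => (key a).trans (key b).symm⟩
    have hne : Nonempty (orbit H x) := ⟨⟨x, mem_orbit_self x⟩⟩
    exact Nat.card_of_subsingleton (⟨x, mem_orbit_self x⟩ : orbit H x)

open Classical in
/-- least index of the orbit of a point -/
noncomputable def orbIdx (S : Setup H s) (x : G ⧸ H) : Fin 5 :=
  (Finset.univ.filter fun j => x ∈ orbit H ((s j : G) : G ⧸ H)).min' (by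
    obtain ⟨j, hj⟩ := S.exists_orbit x
    exact ⟨j, by simpa using hj⟩)

theorem mem_orbit_orbIdx (S : Setup H s) (x : G ⧸ H) :
    x ∈ orbit H ((s (S.orbIdx x) : G) : G ⧸ H) := by
  classical
  have := Finset.min'_mem (Finset.univ.filter fun j => x ∈ orbit H ((s j : G) : G ⧸ H))
    (by obtain ⟨j, hj⟩ := S.exists_orbit x; exact ⟨j, by simpa using hj⟩)
  simpa [orbIdx] using this

theorem orbIdx_le (S : Setup H s) {x : G ⧸ H} {j : Fin 5}
    (h : x ∈ orbit H ((s j : G) : G ⧸ H)) : S.orbIdx x ≤ j := by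
  classical
  exact Finset.min'_le _ _ (by simpa using h)

theorem orbIdx_congr (S : Setup H s) {x y : G ⧸ H} (h : y ∈ orbit H x) :
    S.orbIdx y = S.orbIdx x := by
  have e : orbit H y = orbit H x := orbit_eq_iff.2 h
  have key : ∀ j : Fin 5, y ∈ orbit H ((s j : G) : G ⧸ H) ↔ x ∈ orbit H ((s j : G) : G ⧸ H) :=
    fun j => by rw [← orbit_eq_iff, ← orbit_eq_iff, e]
  exact le_antisymm (S.orbIdx_le ((key _).2 (S.mem_orbit_orbIdx x)))
    (S.orbIdx_le ((key _).1 (S.mem_orbit_orbIdx y)))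

/-- size of a fibre -/
noncomputable def fib (S : Setup H s) (j : Fin 5) : ℕ := Nat.card {x : G ⧸ H // S.orbIdx x = j}

theorem fib_cases (S : Setup H s) (j : Fin 5) :
    S.fib j = 0 ∨ (S.orbIdx (s j : G ⧸ H) = j ∧
      S.fib j = Nat.card (orbit H ((s j : G) : G ⧸ H))) := by
  by_cases h : S.orbIdx (s j : G ⧸ H) = j
  · refine Or.inr ⟨h, Nat.card_congr (Equiv.subtypeEquivRight fun x => ⟨fun hx => ?_, fun hx => ?_⟩)⟩
    · have := S.mem_orbit_orbIdx x
      rwa [hx] at this
    · rw [S.orbIdx_congr hx, h]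
  · have : IsEmpty {x : G ⧸ H // S.orbIdx x = j} := ⟨fun ⟨x, hx⟩ => h (by
      have hm := S.mem_orbit_orbIdx x
      rw [hx] at hm
      rw [← S.orbIdx_congr hm, hx])⟩
    exact Or.inl Nat.card_of_isEmpty

theorem fib_zero (S : Setup H s) : S.fib 0 = 1 := by
  have h0 : S.orbIdx (s 0 : G ⧸ H) = 0 :=
    le_antisymm (S.orbIdx_le (mem_orbit_self _)) (Fin.zero_le _)
  have hfin := S.finite
  rcases S.fib_cases 0 with h | ⟨-, h⟩
  · have : Nonempty {x : G ⧸ H // S.orbIdx x = 0} := ⟨⟨_, h0⟩⟩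
    exact absurd h Nat.card_pos.ne'
  · rw [h]
    exact Nat.dvd_one.1 (S.card_orbit_dvd 0)

theorem card_orbit_one (S : Setup H s) : Nat.card (orbit H ((s 1 : G) : G ⧸ H)) = 19530 := by
  have hd : Nat.card (orbit H ((s 1 : G) : G ⧸ H)) ∣ 19530 := S.card_orbit_dvd 1
  refine le_antisymm (Nat.le_of_dvd (by norm_num) hd) ?_
  have h := S.card_orbit_mul 1
  have := S.exact_one
  nlinarith

theorem fib_one (S : Setup H s) : S.fib 1 = 19530 := by
  have h1 : S.orbIdx (s 1 : G ⧸ H) = 1 := by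
    have hle := S.orbIdx_le (j := 1) (mem_orbit_self ((s 1 : G) : G ⧸ H))
    rcases (show ∀ i : Fin 5, i ≤ 1 → i = 0 ∨ i = 1 by decide) _ hle with h | h
    · have hm := S.mem_orbit_orbIdx (s 1 : G ⧸ H)
      rw [h] at hm
      have e := S.card_orbit_one
      rw [orbit_eq_iff.2 hm, Nat.dvd_one.1 (S.card_orbit_dvd 0)] at e
      norm_num at e
    · exact h
  have hfin := S.finite
  rcases S.fib_cases 1 with h | ⟨-, h⟩
  · have : Nonempty {x : G ⧸ H // S.orbIdx x = 1} := ⟨⟨_, h1⟩⟩
    exact absurd h Nat.card_pos.ne'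
  · rw [h, S.card_orbit_one]

theorem fib_dvd (S : Setup H s) (j : Fin 5) :
    S.fib j = 0 ∨ (S.fib j ∣ lyM j ∧ (S.fib j = 1 ∨ 31 ≤ S.fib j)) := by
  rcases S.fib_cases j with h | ⟨-, h⟩
  · exact Or.inl h
  · exact Or.inr ⟨h ▸ S.card_orbit_dvd j, h ▸ S.card_orbit_one_or_big _⟩

theorem card_filter (S : Setup H s) (T : Finset (Fin 5)) :
    Nat.card {x : G ⧸ H // S.orbIdx x ∈ T} = ∑ j ∈ T, S.fib j := by
  classical
  have hfin := S.finite
  let _ : Fintype (G ⧸ H) := Fintype.ofFinite _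
  simp only [fib, Nat.card_eq_fintype_card, Fintype.card_subtype]
  rw [Finset.card_eq_sum_card_fiberwise (f := S.orbIdx) (t := T) (fun x hx => by simpa using hx)]
  refine Finset.sum_congr rfl fun j hj => ?_
  congr 1
  ext x
  simp only [Finset.mem_filter, Finset.mem_univ, true_and]
  exact ⟨fun h => h.2, fun h => ⟨h ▸ hj, h⟩⟩

theorem index_eq_sum (S : Setup H s) : H.index = ∑ j, S.fib j := by
  rw [← S.card_filter Finset.univ, Subgroup.index]
  exact (Nat.card_congr (Equiv.subtypeUnivEquiv fun x => Finset.mem_univ _)).symm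

theorem index_dvd (S : Setup H s) : 27269 ∣ H.index := by
  obtain ⟨a, ha⟩ := S.order11
  obtain ⟨b, hb⟩ := S.order37
  obtain ⟨c, hc⟩ := S.order67
  have h11 := dvd_index_of_orderOf H S.cardH (by norm_num) (by norm_num) ha
  have h37 := dvd_index_of_orderOf H S.cardH (by norm_num) (by norm_num) hb
  have h67 := dvd_index_of_orderOf H S.cardH (by norm_num) (by norm_num) hc
  exact Nat.Coprime.mul_dvd_of_dvd_of_dvd (m := 11 * 37) (n := 67) (by norm_num)
    (Nat.Coprime.mul_dvd_of_dvd_of_dvd (by norm_num) h11 h37) h67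

theorem fib_eq (S : Setup H s) : ∀ j, S.fib j = lyM j := by
  have h := S.index_dvd
  rw [S.index_eq_sum, Fin.sum_univ_five, S.fib_zero, S.fib_one] at h
  obtain ⟨h2, h3, h4⟩ := len_solution (S.fib_dvd 2) (S.fib_dvd 3) (S.fib_dvd 4) h
  intro j
  match j with
  | 0 => exact S.fib_zero
  | 1 => exact S.fib_one
  | 2 => exact h2
  | 3 => exact h3
  | 4 => exact h4

theorem index_eq (S : Setup H s) : H.index = 8835156 := by
  rw [S.index_eq_sum, Finset.sum_congr rfl fun j _ => S.fib_eq j]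
  decide

theorem card_eq (S : Setup H s) : Nat.card G = 51765179004000000 := by
  rw [← H.index_mul_card, S.index_eq, S.cardH]

theorem orbIdx_self (S : Setup H s) (j : Fin 5) : S.orbIdx (s j : G ⧸ H) = j := by
  have h := S.fib_eq j
  rcases S.fib_cases j with h0 | ⟨h0, -⟩
  · exfalso
    have := lyM_pos j
    omega
  · exact h0

theorem card_orbit_eq (S : Setup H s) (j : Fin 5) :
    Nat.card (orbit H ((s j : G) : G ⧸ H)) = lyM j := by
  rcases S.fib_cases j with h | ⟨-, h⟩
  · have e := S.fib_eq j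
    have := lyM_pos j
    exfalso; omega
  · rw [← h, S.fib_eq]

/-- every lower bound is attained -/
theorem card_inter_eq (S : Setup H s) (j : Fin 5) :
    Nat.card (H ⊓ H.map (MulAut.conj (s j)).toMonoidHom : Subgroup G) = lyK j := by
  have h := S.card_orbit_mul j
  rw [S.card_orbit_eq, ← lyK_mul_lyM j] at h
  have hM : 0 < lyM j := lyM_pos j
  exact Nat.eq_of_mul_eq_mul_left hM (h.trans (mul_comm _ _))

/-- the five double cosets are distinct -/
theorem doubleCoset_inj (S : Setup H s) {i j : Fin 5} {h k : G} (hh : h ∈ H) (hk : k ∈ H)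
    (e : s i = h * s j * k) : i = j := by
  have := S.orbIdx_congr (mem_orbit_of_eq hh hk e)
  rwa [S.orbIdx_self, S.orbIdx_self] at this

theorem sum_ne_half : ∀ T : Finset (Fin 5), ∑ j ∈ T, lyM j ≠ 4417578 := by decide

theorem sum_dvd_cases : ∀ T : Finset (Fin 5), 0 ∈ T → (∑ j ∈ T, lyM j) ∣ 8835156 →
    T = {0} ∨ T = Finset.univ := by decide

theorem eq_top_of_le (S : Setup H s) (N : Subgroup G) [N.Normal] (hN : H ≤ N) : N = ⊤ := by
  classical
  have hfin := S.finite
  by_cases h1 : s 1 ∈ N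
  · rw [eq_top_iff, ← S.gen, Subgroup.closure_le]
    rintro x (hx | rfl)
    · exact hN hx
    · exact h1
  exfalso
  set q : G ⧸ N := QuotientGroup.mk' N (s 1) with hq
  have hord : orderOf q = 2 := by
    refine orderOf_eq_prime ?_ ?_
    · rw [hq, ← map_pow]
      exact (QuotientGroup.eq_one_iff _).2 (hN S.sq_mem)
    · rw [hq, QuotientGroup.mk'_apply, Ne, QuotientGroup.eq_one_iff]
      exact h1
  have htop : Subgroup.zpowers q = ⊤ := by
    rw [eq_top_iff, ← Subgroup.map_top_of_surjective _ (QuotientGroup.mk'_surjective N), ← S.gen,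
      MonoidHom.map_closure, Subgroup.closure_le]
    rintro _ ⟨x, hx | rfl, rfl⟩
    · rw [QuotientGroup.mk'_apply, (QuotientGroup.eq_one_iff x).2 (hN hx)]
      exact one_mem _
    · exact Subgroup.mem_zpowers q
  have hidx : N.index = 2 := by
    rw [Subgroup.index, ← Subgroup.card_top, ← htop, Nat.card_zpowers, hord]
  have hrel : H.relIndex N = 4417578 := by
    have e := Subgroup.relIndex_mul_index hN
    rw [hidx, S.index_eq] at e
    omega
  set T := Finset.univ.filter fun j => s j ∈ N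
  refine sum_ne_half T ?_
  rw [← hrel, ← Finset.sum_congr rfl fun j _ => S.fib_eq j, ← S.card_filter T]
  have key : ∀ g : G, S.orbIdx (g : G ⧸ H) ∈ T ↔ g ∈ N := fun g => by
    obtain ⟨j, h, hh, k, hk, e⟩ := S.cover g
    have hj : S.orbIdx (g : G ⧸ H) = j := by
      rw [S.orbIdx_congr (mem_orbit_of_eq hh hk e), S.orbIdx_self]
    rw [hj, e]
    simp [T, Subgroup.mul_mem_cancel_right N (hN hk), Subgroup.mul_mem_cancel_left N (hN hh)]
  refine (Nat.card_eq_of_bijective (fun x : N ⧸ H.subgroupOf N =>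
    (⟨Quotient.map' (fun n : N => (n : G)) (fun a b hab => ?_) x, ?_⟩ :
      {x : G ⧸ H // S.orbIdx x ∈ T})) ⟨?_, ?_⟩).symm
  · rw [QuotientGroup.leftRel_apply] at hab ⊢
    exact hab
  · induction x using QuotientGroup.induction_on with
    | _ n => exact (key n).2 n.2
  · intro a b hab
    induction a using QuotientGroup.induction_on with
    | _ a =>
      induction b using QuotientGroup.induction_on with
      | _ b =>
        rw [QuotientGroup.eq, Subgroup.mem_subgroupOf]
        exact QuotientGroup.eq.1 (Subtype.ext_iff.1 hab)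
  · rintro ⟨x, hx⟩
    induction x using QuotientGroup.induction_on with
    | _ g => exact ⟨((⟨g, (key g).1 hx⟩ : N) : N ⧸ H.subgroupOf N), rfl⟩

theorem eq_bot_of_disjoint (S : Setup H s) (N : Subgroup G) [N.Normal] (hN : N ⊓ H = ⊥) :
    N = ⊥ := by
  classical
  have hfin := S.finite
  have hdis : ∀ {g : G}, g ∈ N → g ∈ H → g = 1 := fun h1 h2 =>
    Subgroup.mem_bot.1 (hN ▸ Subgroup.mem_inf.2 ⟨h1, h2⟩)
  let ι : N → G ⧸ H := fun n => ((n : G) : G ⧸ H)
  have hinj : Function.Injective ι := fun a b h => Subtype.ext (by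
    have h2 := QuotientGroup.eq.1 h
    have := hdis (N.mul_mem (N.inv_mem a.2) b.2) h2
    exact inv_mul_eq_one.1 this)
  have hinv : ∀ (h : H) (x : G ⧸ H), x ∈ Set.range ι → h • x ∈ Set.range ι := by
    rintro h _ ⟨n, rfl⟩
    refine ⟨⟨(h : G) * n * (h : G)⁻¹, Subgroup.Normal.conj_mem ‹_› _ n.2 _⟩, ?_⟩
    show (((h : G) * n * (h : G)⁻¹ : G) : G ⧸ H) = (((h : G) * n : G) : G ⧸ H)
    rw [QuotientGroup.eq]
    simp [mul_assoc]
  set T := Finset.univ.filter fun j => ((s j : G) : G ⧸ H) ∈ Set.range ι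
  have key : ∀ x : G ⧸ H, S.orbIdx x ∈ T ↔ x ∈ Set.range ι := fun x => by
    obtain ⟨k, hk⟩ := S.mem_orbit_orbIdx x
    simp only [T, Finset.mem_filter, Finset.mem_univ, true_and]
    constructor
    · intro h
      rw [← hk]
      exact hinv k _ h
    · intro h
      have hk' : k⁻¹ • x = ((s (S.orbIdx x) : G) : G ⧸ H) := inv_smul_eq_iff.2 hk.symm
      rw [← hk']
      exact hinv _ _ h
  have hcard : Nat.card N = ∑ j ∈ T, lyM j := by
    rw [← Finset.sum_congr rfl fun j _ => S.fib_eq j, ← S.card_filter T,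
      Nat.card_congr (Equiv.subtypeEquivRight key), Nat.card_range_of_injective hinj]
  have h0T : 0 ∈ T := by
    simp only [T, Finset.mem_filter, Finset.mem_univ, true_and]
    exact ⟨1, by simp [ι, S.s_zero]⟩
  have hdvd : (∑ j ∈ T, lyM j) ∣ 8835156 := by
    rw [← hcard]
    have hH : Nat.card H ∣ N.index := by
      rw [Subgroup.index]
      refine Subgroup.card_dvd_of_injective ((QuotientGroup.mk' N).comp H.subtype) ?_
      rw [← MonoidHom.ker_eq_bot_iff, eq_bot_iff]
      intro h hh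
      rw [MonoidHom.mem_ker, MonoidHom.comp_apply, QuotientGroup.mk'_apply,
        QuotientGroup.eq_one_iff] at hh
      exact Subgroup.mem_bot.2 (Subtype.ext (hdis hh h.2))
    obtain ⟨m, hm⟩ := hH
    have e := N.index_mul_card
    rw [hm, S.cardH, S.card_eq] at e
    exact ⟨m, by nlinarith⟩
  rcases sum_dvd_cases T h0T hdvd with hT | hT
  · refine Subgroup.card_eq_one.1 ?_
    rw [hcard, hT]
    rfl
  exfalso
  have hN8 : Nat.card N = 8835156 := by rw [hcard, hT]; decide
  have hprime : ∀ i, (indexPrime i).Prime := fun i => by fin_cases i <;> norm_num [indexPrime]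
  have hex : ∀ i, ∃ n : N, orderOf n = indexPrime i := fun i => by
    have : Fact (indexPrime i).Prime := ⟨hprime i⟩
    refine exists_prime_orderOf_dvd_card' (indexPrime i) ?_
    rw [hN8]
    fin_cases i <;> norm_num [indexPrime]
  choose e he using hex
  have hne0 : ∀ i, S.orbIdx (ι (e i)) ≠ 0 := fun i h => by
    have hm := S.mem_orbit_orbIdx (ι (e i))
    rw [h, S.s_zero] at hm
    obtain ⟨k, hk⟩ := hm
    have hk' : (((k : G) * 1 : G) : G ⧸ H) = ((e i : G) : G ⧸ H) := hk
    rw [QuotientGroup.eq] at hk'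
    have hmem : (e i : G) ∈ H := by
      have := H.mul_mem k.2 hk'
      simpa using this
    have h1 : e i = 1 := Subtype.ext (hdis (e i).2 hmem)
    have h2 := he i
    rw [h1, orderOf_one] at h2
    exact (hprime i).one_lt.ne h2
  obtain ⟨i, j, hij, hsame⟩ : ∃ i j, i ≠ j ∧ S.orbIdx (ι (e i)) = S.orbIdx (ι (e j)) := by
    by_contra hcon
    push Not at hcon
    have hbij : Function.Injective fun i => S.orbIdx (ι (e i)) := fun i j h => by
      by_contra hne; exact hcon i j hne h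
    obtain ⟨i, hi⟩ := (Finite.injective_iff_surjective.1 hbij) 0
    exact hne0 i hi
  have hi := S.mem_orbit_orbIdx (ι (e i))
  have hj := S.mem_orbit_orbIdx (ι (e j))
  rw [← hsame, ← orbit_eq_iff, ← orbit_eq_iff.2 hi, orbit_eq_iff] at hj
  obtain ⟨k, hk⟩ := hj
  let c : N := ⟨(k : G) * e i * (k : G)⁻¹, Subgroup.Normal.conj_mem ‹_› _ (e i).2 _⟩
  have hc : ι c = ι (e j) := by
    rw [← hk]
    show (((k : G) * e i * (k : G)⁻¹ : G) : G ⧸ H) = (((k : G) * e i : G) : G ⧸ H)
    rw [QuotientGroup.eq]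
    simp [mul_assoc]
  have ho : orderOf c = orderOf (e i) := by
    rw [← Subgroup.orderOf_coe, ← Subgroup.orderOf_coe (e i)]
    exact orderOf_injective (MulAut.conj (k : G)).toMonoidHom (MulAut.conj (k : G)).injective _
  rw [hinj hc, he, he] at ho
  exact hij (indexPrime_inj _ _ ho.symm)

theorem isSimpleGroup (S : Setup H s) : IsSimpleGroup G := by
  have hfin := S.finite
  have : Nontrivial G := Finite.one_lt_card_iff_nontrivial.1 (by rw [S.card_eq]; norm_num)
  refine ⟨fun N hN => ?_⟩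
  have := hN
  have := S.simpleH
  rcases (Subgroup.Normal.subgroupOf hN H).eq_bot_or_eq_top with h | h
  · exact Or.inl (S.eq_bot_of_disjoint N (Subgroup.subgroupOf_eq_bot.1 h).eq_bot)
  · exact Or.inr (S.eq_top_of_le N (Subgroup.subgroupOf_eq_top.1 h))

end Setup

end Cfsg.Agent.Lib.LyMain
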