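import Mathlib
import Cfsg.Agent.Lib.LyDC.Bridge
import Cfsg.Agent.Lib.LyDC.Exact
import Cfsg.Agent.Lib.LyMat14.Facts
import Cfsg.Agent.Lib.LyMain.Assembly

/-!
The presented Lyons group: the double coset data, and the setting for its order and simplicity
from the simplicity of `Hbar`.
-/

set_option autoImplicit false

namespace Cfsg.Agent.Lib.LyMain

open Cfsg Cfsg.Spor
open Cfsg.Agent.Lib.LyMult97 (gg gg_eq rel_at rel_one genVal)
open Cfsg.Agent.Lib.LyDC (Hbar rep)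

theorem rels_gg : LyDC.RelsHold (gg .a) (gg .b) (gg .c) (gg .d) (gg .z) := by
  intro i _ _ r hr
  rw [show genVal (gg .a) (gg .b) (gg .c) (gg .d) (gg .z) = gg from funext fun x => (gg_eq x).symm]
  exact rel_at i hr

/-- the map from `Hbar` onto `<a, b, c, d>` -/
noncomputable def lyPhi : Hbar →* Ly := Classical.choose (LyDC.exists_hom (LyDC.lyRel_of_rels rels_gg))

theorem lyPhi_spec : lyPhi (rep.f 0) = gg .a ∧ lyPhi (rep.f 2) = gg .b ∧ lyPhi (rep.f 4) = gg .c ∧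
    lyPhi (rep.f 6) = gg .d ∧
      lyPhi.range = Subgroup.closure {gg .a, gg .b, gg .c, gg .d} :=
  Classical.choose_spec (LyDC.exists_hom (LyDC.lyRel_of_rels rels_gg))

theorem lyMaps : LyDC.Maps lyPhi (gg .a) (gg .b) (gg .c) (gg .d) :=
  ⟨lyPhi_spec.1, lyPhi_spec.2.1, lyPhi_spec.2.2.1, lyPhi_spec.2.2.2.1⟩

/-- the data of the derivation in the presented group -/
noncomputable def lyCtx : LyDC.Ctx Ly := LyDC.ctxOf LyDC.baseInj lyMaps rels_gg

theorem lyCtx_gen : Subgroup.closure ((lyCtx.φ.range : Set Ly) ∪ {lyCtx.z}) = ⊤ := by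
  refine LyDC.gen_top LyDC.baseInj lyMaps rels_gg (top_unique ?_)
  have e : Subgroup.closure (Set.range gg) = ⊤ := PresentedGroup.closure_range_of _
  rw [← e, Subgroup.closure_le]
  rintro _ ⟨x, rfl⟩
  set S := Subgroup.closure ({gg .a, gg .b, gg .c, gg .d, gg .z} : Set Ly) with hS
  have ma : gg .a ∈ S := Subgroup.subset_closure (Set.mem_insert _ _)
  have mb : gg .b ∈ S := Subgroup.subset_closure (Set.mem_insert_of_mem _ (Set.mem_insert _ _))
  have mc : gg .c ∈ S := Subgroup.subset_closure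
    (Set.mem_insert_of_mem _ (Set.mem_insert_of_mem _ (Set.mem_insert _ _)))
  have md : gg .d ∈ S := Subgroup.subset_closure
    (Set.mem_insert_of_mem _ (Set.mem_insert_of_mem _ (Set.mem_insert_of_mem _ (Set.mem_insert _ _))))
  have mz : gg .z ∈ S := Subgroup.subset_closure (Set.mem_insert_of_mem _ (Set.mem_insert_of_mem _
    (Set.mem_insert_of_mem _ (Set.mem_insert_of_mem _ (Set.mem_singleton _)))))
  have key : genVal (⟨_, ma⟩ : S) ⟨_, mb⟩ ⟨_, mc⟩ ⟨_, md⟩ ⟨_, mz⟩ x = genVal (gg .a) (gg .b) (gg .c)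
      (gg .d) (gg .z) x := LyMult97.genVal_map S.subtype _ _ _ _ _ x
  rw [gg_eq x, ← key]
  exact (genVal (⟨_, ma⟩ : S) ⟨_, mb⟩ ⟨_, mc⟩ ⟨_, md⟩ ⟨_, mz⟩ x).2

theorem ly_finite : Finite Ly := (lyCtx.card_le LyDC.card_Hbar lyCtx_gen).1

theorem exists_order (p : ℕ) (g : Ly) (h : orderOf (LyMat14.rho g) = p) : ∃ x : Ly, orderOf x = p := by
  have := ly_finite
  have hd : p ∣ orderOf g := h ▸ orderOf_map_dvd LyMat14.rho g
  exact ⟨g ^ (orderOf g / p), orderOf_pow_orderOf_div (orderOf_pos g).ne' hd⟩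

theorem gg_eq_lyOf (x : Ly.Gen) : gg x = LyMat14.lyOf x := rfl

theorem lyPhi_injective (hs : IsSimpleGroup Hbar) : Function.Injective lyPhi := by
  rcases (MonoidHom.normal_ker lyPhi).eq_bot_or_eq_top with h | h
  · exact (MonoidHom.ker_eq_bot_iff _).1 h
  · exfalso
    refine LyMat14.rho_a_ne_one ?_
    rw [← gg_eq_lyOf, ← lyPhi_spec.1,
      MonoidHom.mem_ker.1 (h ▸ Subgroup.mem_top (rep.f 0) : rep.f 0 ∈ lyPhi.ker), map_one]

theorem notMem_S_one {u w : List ℕ} (hu : LyDC.decode u = w)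
    (hw : LyMat14.rho (LyMat14.preW ([8] ++ w ++ [9])) ∉ Subgroup.closure
      ({LyMat14.rho (LyMat14.lyOf .a), LyMat14.rho (LyMat14.lyOf .b), LyMat14.rho (LyMat14.lyOf .c),
        LyMat14.rho (LyMat14.lyOf .d)} : Set (LyMat14.MatUnits 111))) :
    rep.ev u ∉ lyCtx.S 1 := by
  intro hm
  apply hw
  have hm' : lyCtx.W 1 * lyPhi (rep.ev u) * (lyCtx.W 1)⁻¹ ∈ lyPhi.range := hm
  have hpre : LyMat14.preW ([8] ++ w ++ [9]) = lyCtx.W 1 * lyPhi (rep.ev u) * (lyCtx.W 1)⁻¹ := by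
    rw [lyCtx.W_one, lyMaps.ev_eq, hu, LyMat14.preW, List.map_append, List.map_append,
      List.prod_append, List.prod_append]
    have e : w.map LyMat14.preLetter =
        w.map (LyDC.letterVal (gg .a) (gg .b) (gg .c) (gg .d)) := by
      refine List.map_congr_left fun l hl => ?_
      have : l < 8 := LyDC.mem_decode_lt (hu ▸ hl)
      interval_cases l <;> rfl
    rw [e]
    simp only [List.map_cons, List.map_nil, List.prod_cons, List.prod_nil, mul_one]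
    rfl
  rw [hpre]
  rw [lyPhi_spec.2.2.2.2] at hm'
  have := Subgroup.mem_map_of_mem LyMat14.rho hm'
  rw [MonoidHom.map_closure] at this
  simpa [Set.image_insert_eq, Set.image_singleton, gg_eq_lyOf] using this

theorem img_start : ∀ p, LyDC.hasBit LyDC.covMoveM.1 p = true →
    p = 0 ∨ p = 1 ∨ p = 5 ∨ p = 6 ∨ p = 8 ∨ p = 21 := by
  intro p hp
  rw [LyDC.covMove_start, LyDC.hasBit_iff] at hp
  simp only [Nat.testBit_or, Nat.one_shiftLeft, Nat.testBit_two_pow, Bool.or_eq_true,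
    decide_eq_true_iff] at hp
  tauto

theorem moves_zero : LyDC.tabs.go [0x3] 0 = 1 ∧ LyDC.tabs.go [0x675741357] 0 = 5 ∧
    LyDC.tabs.go [0x63235757] 0 = 6 ∧ LyDC.tabs.go [0x4135714] 0 = 8 ∧
    LyDC.tabs.go [0x7] 0 = 21 := by
  decide +kernel

theorem cov1_img : ∀ g ∈ LyDC.fstL LyDC.cov1G, rep.ev g ∈ LyDC.imgGroup :=
  LyDC.asImg_mem LyDC.baseInj LyDC.cov1_asImg

theorem S_one_le : lyCtx.S 1 ≤ LyDC.imgGroup := by
  have hI := LyDC.baseInj
  have hfix : LyDC.imgGroup = rep.fixList [0] := (LyDC.fix_zero_eq hI LyDC.card_Hbar.le).1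
  intro h hh
  obtain ⟨r, s, hs, hsr, hr⟩ : ∃ r, ∃ s ∈ LyDC.imgGroup, rep.pt s r = rep.pt h⁻¹ 0 ∧
      (r = 0 ∨ r = 1 ∨ r = 5 ∨ r = 6 ∨ r = 8 ∨ r = 21) := by
    obtain ⟨r, hr, s, hs, hsr⟩ := LyDC.orbRun_sound rep
      (P := fun p => ∃ r, (r = 0 ∨ r = 1 ∨ r = 5 ∨ r = 6 ∨ r = 8 ∨ r = 21) ∧
        ∃ s ∈ LyDC.imgGroup, rep.pt s r = p)
      (fun g hg x _ => by
        rintro ⟨r, hr, s, hs, rfl⟩
        exact ⟨r, hr, s * rep.ev g, mul_mem hs (cov1_img g hg), rep.pt_mul _ _ _⟩)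
      _ _ _ LyDC.covMove_run (fun p hp => ⟨p, img_start p hp, 1, one_mem _, rep.pt_one _⟩)
      (rep.pt h⁻¹ 0) (LyDC.fullMask_spec LyDC.covMove_full _ (rep.pt_lt _ _ (by decide)))
    exact ⟨r, s, hs, hsr, hr⟩
  have hr0 : rep.pt (s * h) r = 0 := by
    rw [rep.pt_mul, hsr]
    have := rep.pt_inv (g := h⁻¹) (p := 0) rfl
    rwa [inv_inv] at this
  have hz0 : ∀ x : Hbar, rep.pt x 0 = 0 → x ∈ LyDC.imgGroup := fun x hx => by
    rw [hfix]
    intro p hp
    rw [List.mem_singleton.1 hp]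
    exact hx
  have bad : ∀ u, rep.ev u ∉ lyCtx.S 1 → LyDC.tabs.go u 0 = r → False := fun u hu hgo => by
    rw [rep.go_eq _ _ (by decide)] at hgo
    refine hu ?_
    have hx : rep.pt (rep.ev u * (s * h)) 0 = 0 := by rw [rep.pt_mul, hgo, hr0]
    have := mul_mem (lyCtx.img_le_S (hz0 _ hx)) (inv_mem (mul_mem (lyCtx.img_le_S hs) hh))
    simpa [mul_assoc] using this
  obtain ⟨m1, m5, m6, m8, m21⟩ := moves_zero
  rcases hr with rfl | rfl | rfl | rfl | rfl | rfl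
  · have h1 := hz0 _ hr0
    have h2 := mul_mem (inv_mem hs) h1
    simpa using h2
  · exact (bad _ (notMem_S_one (w := [2]) (by decide +kernel) LyMat14.rho_move0_notMem) m1).elim
  · exact (bad _ (notMem_S_one (w := [6, 4, 2, 0, 3, 6, 4, 6, 5]) (by decide +kernel)
      LyMat14.rho_move1_notMem) m5).elim
  · exact (bad _ (notMem_S_one (w := [6, 4, 6, 4, 2, 1, 2, 5]) (by decide +kernel)
      LyMat14.rho_move2_notMem) m6).elim
  · exact (bad _ (notMem_S_one (w := [3, 0, 6, 4, 2, 0, 3]) (by decide +kernel)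
      LyMat14.rho_move3_notMem) m8).elim
  · exact (bad _ (notMem_S_one (w := [6]) (by decide +kernel) LyMat14.rho_move4_notMem) m21).elim

end Cfsg.Agent.Lib.LyMain
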