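import Mathlib
import Cfsg.Agent.Lib.LyMain.Setting
import Cfsg.Prelude.Def_Sporadic

/-!
Order, index and simplicity of the presented Lyons group, from the simplicity of `Hbar`.
-/

set_option autoImplicit false

namespace Cfsg.Agent.Lib.LyMain

open Cfsg Cfsg.Spor
open Cfsg.Agent.Lib.LyMult97 (gg)
open Cfsg.Agent.Lib.LyDC (Hbar rep)

/-- the left representatives of the five double cosets -/
noncomputable def lyS (j : Fin 5) : Ly := (lyCtx.W j)⁻¹

theorem inter_eq (hs : IsSimpleGroup Hbar) (j : Fin 5) :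
    lyPhi.range ⊓ lyPhi.range.map (MulAut.conj (lyS j)).toMonoidHom = (lyCtx.S j).map lyPhi := by
  ext x
  constructor
  · rintro ⟨⟨t, rfl⟩, y, hy, e⟩
    refine ⟨t, ?_, rfl⟩
    show lyCtx.W j * lyPhi t * (lyCtx.W j)⁻¹ ∈ lyPhi.range
    have e' : (lyCtx.W j)⁻¹ * y * (lyCtx.W j)⁻¹⁻¹ = lyPhi t := e
    have : lyCtx.W j * lyPhi t * (lyCtx.W j)⁻¹ = y := by rw [← e']; group
    rw [this]; exact hy
  · rintro ⟨t, ht, rfl⟩
    refine ⟨⟨t, rfl⟩, lyCtx.W j * lyPhi t * (lyCtx.W j)⁻¹, ht, ?_⟩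
    show (lyCtx.W j)⁻¹ * (lyCtx.W j * lyPhi t * (lyCtx.W j)⁻¹) * (lyCtx.W j)⁻¹⁻¹ = lyPhi t
    group

theorem card_range (hs : IsSimpleGroup Hbar) : Nat.card lyPhi.range = 5859000000 := by
  rw [← LyDC.card_Hbar]
  exact (Nat.card_congr (MonoidHom.ofInjective (lyPhi_injective hs)).toEquiv).symm

theorem img_card_le : Nat.card LyDC.imgGroup ≤ 300000 := by
  rw [(LyDC.fix_zero_eq LyDC.baseInj LyDC.card_Hbar.le).1]
  exact LyDC.fix_zero_card_le LyDC.card_Hbar.le

theorem lySetup (hs : IsSimpleGroup Hbar) : Setup lyPhi.range lyS where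
  cardH := card_range hs
  simpleH :=
    let _ := hs
    (MonoidHom.ofInjective (lyPhi_injective hs)).symm.isSimpleGroup
  s_zero := by
    show (lyCtx.W 0)⁻¹ = 1
    simp [LyDC.Ctx.W]
  cover g := by
    obtain ⟨j, hj, h, k, hg⟩ := lyCtx.cover_left LyDC.card_Hbar.le lyCtx_gen g
    exact ⟨⟨j, hj⟩, lyPhi h, ⟨h, rfl⟩, lyPhi k, ⟨k, rfl⟩, hg⟩
  lower j := by
    rw [inter_eq hs j, Subgroup.card_map_of_injective (lyPhi_injective hs)]
    have h := lyCtx.stabOrder_dvd LyDC.card_Hbar j j.2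
    fin_cases j <;> exact h
  exact_one := by
    rw [inter_eq hs 1, Subgroup.card_map_of_injective (lyPhi_injective hs)]
    exact (Nat.le_of_dvd Nat.card_pos (Subgroup.card_dvd_of_le S_one_le)).trans img_card_le
  gen := by
    refine top_unique (lyCtx_gen ▸ (Subgroup.closure_le _).2 ?_)
    rintro x (hx | hx)
    · exact Subgroup.subset_closure (Or.inl hx)
    · rw [Set.mem_singleton_iff.1 hx, ← lyCtx.W_one, ← inv_inv (lyCtx.W 1)]
      exact inv_mem (Subgroup.subset_closure (Or.inr rfl))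
  sq_mem := by
    show ((lyCtx.W 1)⁻¹) ^ 2 ∈ lyPhi.range
    rw [lyCtx.W_one, inv_pow, pow_two, lyCtx.uz]
    exact inv_mem ⟨_, rfl⟩
  order11 := exists_order 11 _ LyMat14.orderOf_word11
  order37 := exists_order 37 _ LyMat14.orderOf_word37
  order67 := exists_order 67 _ LyMat14.orderOf_word67

theorem map_abcd_eq :
    (Subgroup.closure ({Ly.a, Ly.b, Ly.c, Ly.d} : Set (FreeGroup Ly.Gen))).map
      (PresentedGroup.mk (coxRelators Ly.edges ∪ {r | r ∈ Ly.extra})) = lyPhi.range := by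
  rw [lyPhi_spec.2.2.2.2, MonoidHom.map_closure]
  congr 1
  simp [Set.image_insert_eq, gg, PresentedGroup.of]

theorem ly_index (hs : IsSimpleGroup Hbar) : lyPhi.range.index = 8835156 := (lySetup hs).index_eq

theorem ly_card (hs : IsSimpleGroup Hbar) : Nat.card Ly = 51765179004000000 := (lySetup hs).card_eq

theorem ly_simple (hs : IsSimpleGroup Hbar) : IsSimpleGroup Ly := (lySetup hs).isSimpleGroup

theorem ly_isLy (hs : IsSimpleGroup Hbar) : Cfsg.IsLy Ly := ⟨ly_simple hs, ly_card hs⟩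

end Cfsg.Agent.Lib.LyMain
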